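import Cfsg.Agent.Fusion.UniqueInvolution

/-!
A finite 2-group with a maximal central subgroup `D` (of the centre) whose quotient is non-abelian with one
involution: generators and the resulting relations.
-/

set_option autoImplicit false

namespace Cfsg.Agent.QuatCenter

open Subgroup

variable {S : Type*} [Group S] [Finite S]

theorem index_two (hS : IsPGroup 2 S) (D : Subgroup ↥(center S)) (hD : IsCoatom D) : D.index = 2 := by
  haveI : Fact (Nat.Prime 2) := ⟨Nat.prime_two⟩
  obtain ⟨n, hn⟩ := IsPGroup.iff_card.1 (hS.to_subgroup (center S))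
  have hdvd : D.index ∣ 2 ^ n := hn ▸ D.index_dvd_card
  obtain ⟨j, -, hj⟩ := (Nat.dvd_prime_pow Nat.prime_two).1 hdvd
  have hne : D.index ≠ 1 := fun h => hD.1 (index_eq_one.1 h)
  have : (2 : ℕ) ∣ Nat.card (↥(center S) ⧸ D) := by
    rw [← index_eq_card, hj]
    exact dvd_pow_self 2 (by intro h; subst h; exact hne (by simpa using hj))
  obtain ⟨x, hx⟩ := exists_prime_orderOf_dvd_card' 2 this
  set K := (zpowers x).comap (QuotientGroup.mk' D)
  have hDK : D < K := by
    refine lt_of_le_of_ne (fun d hd => ?_) fun e => ?_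
    · show (QuotientGroup.mk' D) d ∈ zpowers x
      rw [show (QuotientGroup.mk' D) d = 1 from (QuotientGroup.eq_one_iff d).2 hd]; exact one_mem _
    · obtain ⟨y, rfl⟩ := QuotientGroup.mk'_surjective D x
      have : y ∈ D := e ▸ (mem_zpowers _ : (QuotientGroup.mk' D) y ∈ zpowers ((QuotientGroup.mk' D) y))
      rw [show (QuotientGroup.mk' D) y = 1 from (QuotientGroup.eq_one_iff y).2 this, orderOf_one] at hx
      omega
  have hK := hD.2 K hDK
  have : zpowers x = ⊤ := by
    have := congrArg (map (QuotientGroup.mk' D)) hK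
    rwa [map_comap_eq_self_of_surjective (QuotientGroup.mk'_surjective D),
      map_top_of_surjective _ (QuotientGroup.mk'_surjective D)] at this
  rw [index_eq_card, ← card_top (G := ↥(center S) ⧸ D), ← this, Nat.card_zpowers, hx]

/-- The hypothesis on the pair `(S, D)`. -/
def Hyp (D : Subgroup S) [D.Normal] : Prop :=
  ¬ IsMulCommutative (S ⧸ D) ∧ ∃! x : S ⧸ D, orderOf x = 2

/-- An element mapping to an involution, or to `1`, is central. -/
theorem mem_center_of_sq (hS : IsPGroup 2 S) (D : Subgroup ↥(center S)) (hD : IsCoatom D)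
    [(D.map (center S).subtype).Normal] (h : Hyp (D.map (center S).subtype)) {x : S}
    (hx : x ^ 2 ∈ D.map (center S).subtype) : x ∈ center S := by
  set D' := D.map (center S).subtype
  have hD'Z : D' ≤ center S := map_subtype_le D
  haveI : Fact (Nat.Prime 2) := ⟨Nat.prime_two⟩
  by_cases hxD : x ∈ D'
  · exact hD'Z hxD
  obtain ⟨z, hz⟩ : ∃ z : ↥(center S), z ∉ D := by
    by_contra hc
    push Not at hc
    exact hD.1 (eq_top_iff.2 fun z _ => hc z)
  have hz2 : z ^ 2 ∈ D := sq_mem_of_index_two (index_two hS D hD) z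
  have hzD' : (z : S) ∉ D' := by
    rintro ⟨w, hw, e⟩
    exact hz (Subtype.ext (e : (w : S) = z) ▸ hw)
  obtain ⟨u, -, huniq⟩ := h.2
  have h1 : orderOf (x : S ⧸ D') = 2 :=
    orderOf_eq_prime (by rw [← QuotientGroup.mk_pow, QuotientGroup.eq_one_iff]; exact hx)
      (by rw [Ne, QuotientGroup.eq_one_iff]; exact hxD)
  have h2 : orderOf ((z : S) : S ⧸ D') = 2 :=
    orderOf_eq_prime (by
        rw [← QuotientGroup.mk_pow, QuotientGroup.eq_one_iff]
        exact ⟨z ^ 2, hz2, rfl⟩)
      (by rw [Ne, QuotientGroup.eq_one_iff]; exact hzD')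
  have e := (huniq _ h1).trans (huniq _ h2).symm
  have : x⁻¹ * z ∈ center S := hD'Z (QuotientGroup.eq.1 e)
  have h3 := mul_mem z.2 (inv_mem this)
  simpa using h3

/-- Lifts of the standard generators of the quaternion quotient. -/
theorem exists_gens (hS : IsPGroup 2 S) (D : Subgroup ↥(center S)) (hD : IsCoatom D)
    [(D.map (center S).subtype).Normal] (h : Hyp (D.map (center S).subtype)) :
    ∃ (a b : S) (k : ℕ), 1 ≤ k ∧
      (∀ x : S, ∃ j : ℕ, (a ^ j)⁻¹ * x ∈ D.map (center S).subtype ∨ (b * a ^ j)⁻¹ * x ∈ D.map (center S).subtype) ∧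
      (∀ j : ℕ, b * a ^ j ∉ center S ∧ (b * a ^ j) ^ 2 ∈ center S) ∧
      (a ^ (2 ^ (k - 1)) ∉ center S ∧ (a ^ (2 ^ (k - 1))) ^ 2 ∈ center S) ∧
      (∀ j : ℕ, a ^ j ∈ D.map (center S).subtype → 2 * 2 ^ k ∣ j) := by
  set D' := D.map (center S).subtype
  have hD'Z : D' ≤ center S := map_subtype_le D
  obtain ⟨hna, u, hu, huniq⟩ := id h
  rcases Fusion.cyclic_or_quaternion (hS.to_quotient D') (fun v w hv hw => (huniq v hv).trans (huniq w hw).symm)
    with hc | ⟨k, hk, ⟨e⟩⟩
  · obtain ⟨g, hg⟩ := hc.exists_generator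
    refine absurd ⟨⟨fun v w => ?_⟩⟩ hna
    obtain ⟨i, rfl⟩ := hg v
    obtain ⟨j, rfl⟩ := hg w
    exact (Commute.zpow_zpow_self g i j).eq
  set n := 2 ^ k with hn
  haveI : NeZero n := ⟨by positivity⟩
  obtain ⟨a, ha⟩ := QuotientGroup.mk_surjective (e.symm (QuaternionGroup.a 1))
  obtain ⟨b, hb⟩ := QuotientGroup.mk_surjective (e.symm (QuaternionGroup.xa 0))
  have hea : e (a : S ⧸ D') = QuaternionGroup.a 1 := by rw [ha, e.apply_symm_apply]
  have heb : e (b : S ⧸ D') = QuaternionGroup.xa 0 := by rw [hb, e.apply_symm_apply]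
  have hea' : ∀ j : ℕ, e ((a ^ j : S) : S ⧸ D') = QuaternionGroup.a (j : ZMod (2 * n)) := fun j => by
    rw [QuotientGroup.mk_pow, map_pow, hea, QuaternionGroup.a_one_pow]
  have hebj : ∀ j : ℕ, e ((b * a ^ j : S) : S ⧸ D') = QuaternionGroup.xa (j : ZMod (2 * n)) := fun j => by
    rw [QuotientGroup.mk_mul, map_mul, hea', heb, QuaternionGroup.xa_mul_a, zero_add]
  -- central elements have image of order at most two
  have hcent : ∀ x : S, x ∈ center S → e (x : S ⧸ D') ^ 2 = 1 := by
    intro x hx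
    have : (⟨x, hx⟩ : ↥(center S)) ^ 2 ∈ D := sq_mem_of_index_two (index_two hS D hD) _
    rw [← map_pow, ← QuotientGroup.mk_pow, show ((x ^ 2 : S) : S ⧸ D') = 1 from
      (QuotientGroup.eq_one_iff _).2 ⟨_, this, rfl⟩, map_one]
  -- elements with image of order at most four have central square
  have hsq : ∀ x : S, e (x : S ⧸ D') ^ 4 = 1 → x ^ 2 ∈ center S := by
    intro x hx
    refine mem_center_of_sq hS D hD h ?_
    rw [← QuotientGroup.eq_one_iff, QuotientGroup.mk_pow, QuotientGroup.mk_pow, ← pow_mul]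
    exact e.injective (by rw [map_pow, hx, map_one])
  have hne : ∀ {y : QuaternionGroup n}, orderOf y = 4 → y ^ 2 ≠ 1 := by
    intro y hy h2
    have := orderOf_dvd_of_pow_eq_one h2
    rw [hy] at this; omega
  refine ⟨a, b, k, hk, fun x => ?_, fun j => ⟨fun hc => ?_, hsq _ ?_⟩, ⟨fun hc => ?_, hsq _ ?_⟩, fun j hj => ?_⟩
  · rcases hq : e (x : S ⧸ D') with i | i
    · refine ⟨i.val, Or.inl (QuotientGroup.eq.1 (e.injective ?_))⟩
      rw [hea', hq, ZMod.natCast_zmod_val]
    · refine ⟨i.val, Or.inr (QuotientGroup.eq.1 (e.injective ?_))⟩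
      rw [hebj, hq, ZMod.natCast_zmod_val]
  · exact hne (QuaternionGroup.orderOf_xa (j : ZMod (2 * n))) (by rw [← hebj]; exact hcent _ hc)
  · rw [hebj]; exact QuaternionGroup.xa_pow_four _
  · have h2 := hcent _ hc
    rw [QuotientGroup.mk_pow, map_pow, hea, ← pow_mul] at h2
    have h3 := orderOf_dvd_of_pow_eq_one h2
    rw [QuaternionGroup.orderOf_a_one, ← pow_succ, Nat.sub_add_cancel hk] at h3
    have := Nat.le_of_dvd (by positivity) h3
    have := Nat.one_le_two_pow (n := k)
    omega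
  · have h4 : 2 ^ (k - 1) * 4 = 2 * n := by
      have : 2 ^ (k - 1) * 2 = n := by rw [← pow_succ, Nat.sub_add_cancel hk]
      omega
    rw [QuotientGroup.mk_pow, map_pow, hea, ← pow_mul, h4, QuaternionGroup.a_one_pow_n]
  · have h1 : e ((a ^ j : S) : S ⧸ D') = 1 := by
      rw [(QuotientGroup.eq_one_iff _).2 hj, map_one]
    rw [QuotientGroup.mk_pow, map_pow, hea] at h1
    have := orderOf_dvd_of_pow_eq_one h1
    rwa [QuaternionGroup.orderOf_a_one] at this

/-- The commutator subgroup is the cyclic group generated by `⁅a, b⁆`. -/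
theorem isCyclic_commutator (hS : IsPGroup 2 S) (D : Subgroup ↥(center S)) (hD : IsCoatom D)
    [(D.map (center S).subtype).Normal] (h : Hyp (D.map (center S).subtype)) :
    IsCyclic ↥(_root_.commutator S) := by
  obtain ⟨a, b, k, -, hcov, hb, -, -⟩ := exists_gens hS D hD h
  have hD'Z : D.map (center S).subtype ≤ center S := map_subtype_le D
  have hb2 : b ^ 2 ∈ center S := by simpa using (hb 0).2
  have hba : (b * a) ^ 2 ∈ center S := by simpa using (hb 1).2
  obtain ⟨w, hw⟩ : ∃ w, w = (b * a) ^ 2 * (b ^ 2)⁻¹ := ⟨_, rfl⟩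
  have hwZ : w ∈ center S := hw ▸ mul_mem hba (inv_mem hb2)
  have hwc := mem_center_iff.1 hwZ
  have hconj : b * a * b⁻¹ = a⁻¹ * w := by
    have hz := mem_center_iff.1 hba a⁻¹
    rw [hw, ← mul_assoc, hz]
    simp only [sq, mul_inv_rev, mul_assoc, mul_inv_cancel_left]
  set c := a * b * a⁻¹ * b⁻¹ with hc
  have hc' : c = a * (a * w⁻¹) := by
    have : b * a⁻¹ * b⁻¹ = (b * a * b⁻¹)⁻¹ := by simp [mul_assoc]
    calc c = a * (b * a⁻¹ * b⁻¹) := by simp [hc, mul_assoc]
      _ = a * (w⁻¹ * a) := by rw [this, hconj, mul_inv_rev, inv_inv]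
      _ = _ := by rw [(mem_center_iff.1 (inv_mem hwZ) a).symm]
  have hwi := mem_center_iff.1 (inv_mem hwZ)
  have hca : a * c * a⁻¹ = c := by rw [hc']; simp only [← mul_assoc]; rw [mul_assoc _ w⁻¹, ← hwi]; simp [mul_assoc]
  have hcb : b * c * b⁻¹ = c⁻¹ := by
    have e1 : b * w⁻¹ * b⁻¹ = w⁻¹ := by rw [hwi b, mul_inv_cancel_right]
    calc b * c * b⁻¹ = (b * a * b⁻¹) * (b * a * b⁻¹) * (b * w⁻¹ * b⁻¹) := by rw [hc']; simp [mul_assoc]
      _ = a⁻¹ * w * (a⁻¹ * w) * w⁻¹ := by rw [hconj, e1]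
      _ = a⁻¹ * (w * a⁻¹) := by simp [mul_assoc]
      _ = w * a⁻¹ * a⁻¹ := by rw [← mul_assoc, hwc a⁻¹]
      _ = c⁻¹ := by rw [hc']; simp [mul_assoc]
  have hgen : ∀ (T : Subgroup S), center S ≤ T → a ∈ T → b ∈ T → T = ⊤ := by
    intro T hZ ha hb'
    refine eq_top_iff.2 fun x _ => ?_
    obtain ⟨j, hj | hj⟩ := hcov x
    · have := T.mul_mem (T.pow_mem ha j) (hZ (hD'Z hj))
      rwa [mul_inv_cancel_left] at this
    · have := T.mul_mem (T.mul_mem hb' (T.pow_mem ha j)) (hZ (hD'Z hj))
      rwa [mul_inv_cancel_left] at this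
  have hnorm : (zpowers c).Normal := by
    rw [← normalizer_eq_top_iff]
    have key : ∀ g : S, g * c * g⁻¹ ∈ zpowers c → g ∈ normalizer (zpowers c : Set S) := by
      intro g hg
      have hle : (zpowers c).map (MulAut.conj g).toMonoidHom ≤ zpowers c := by
        rw [MonoidHom.map_zpowers, zpowers_le]; exact hg
      have heq := eq_of_le_of_card_ge hle (by
        rw [Nat.card_congr (Subgroup.equivMapOfInjective (zpowers c) (MulAut.conj g).toMonoidHom
          (MulAut.conj g).injective).toEquiv])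
      rw [mem_normalizer_iff]
      intro x
      constructor
      · intro hx; rw [← heq]; exact ⟨x, hx, rfl⟩
      · intro hx
        rw [← heq] at hx
        obtain ⟨y, hy, e⟩ := hx
        rwa [← (MulAut.conj g).injective e]
    refine hgen _ (fun z hz => key z ?_) (key a ?_) (key b ?_)
    · rw [← mem_center_iff.1 hz c, mul_inv_cancel_right]; exact mem_zpowers c
    · rw [hca]; exact mem_zpowers c
    · rw [hcb]; exact inv_mem (mem_zpowers c)
  have hle : _root_.commutator S ≤ zpowers c := by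
    haveI := hnorm
    set N := zpowers c
    suffices hq : ∀ p q : S ⧸ N, p * q = q * p by
      rw [_root_.commutator_def, commutator_le]
      intro g _ g' _
      rw [← QuotientGroup.eq_one_iff, ← QuotientGroup.mk'_apply, map_commutatorElement,
        commutatorElement_eq_one_iff_mul_comm]
      exact hq _ _
    have hab : (a : S ⧸ N) * b = b * a := by
      rw [← QuotientGroup.mk_mul, ← QuotientGroup.mk_mul, eq_comm, QuotientGroup.eq]
      have h1 : (b * a)⁻¹ * (a * b) = (b * a)⁻¹ * c * (b * a) := by simp [hc, mul_assoc]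
      rw [h1]
      simpa [mul_assoc] using hnorm.conj_mem c (mem_zpowers c) ((b * a)⁻¹)
    have hcomm : ∀ x : S, (x : S ⧸ N) * a = a * x ∧ (x : S ⧸ N) * b = b * x := by
      intro x
      have : x ∈ (centralizer ({(a : S ⧸ N), (b : S ⧸ N)} : Set (S ⧸ N))).comap (QuotientGroup.mk' N) := by
        refine (hgen _ ?_ ?_ ?_).ge (mem_top x)
        · intro z hz
          rw [mem_comap, mem_centralizer_iff]
          rintro y (rfl | rfl) <;>
            simp only [QuotientGroup.mk'_apply, ← QuotientGroup.mk_mul, mem_center_iff.1 hz]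
        · rw [mem_comap, mem_centralizer_iff]; rintro y (rfl | rfl) <;> simp [hab]
        · rw [mem_comap, mem_centralizer_iff]; rintro y (rfl | rfl) <;> simp [hab]
      rw [mem_comap, mem_centralizer_iff] at this
      exact ⟨(this _ (Or.inl rfl)).symm, (this _ (Or.inr rfl)).symm⟩
    intro p q
    obtain ⟨x, rfl⟩ := QuotientGroup.mk_surjective p
    obtain ⟨y, rfl⟩ := QuotientGroup.mk_surjective q
    have : y ∈ (centralizer ({(x : S ⧸ N)} : Set (S ⧸ N))).comap (QuotientGroup.mk' N) := by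
      refine (hgen _ ?_ ?_ ?_).ge (mem_top y)
      · intro z hz
        rw [mem_comap, mem_centralizer_singleton_iff]
        simp only [QuotientGroup.mk'_apply, ← QuotientGroup.mk_mul, mem_center_iff.1 hz]
      · rw [mem_comap, mem_centralizer_singleton_iff]; exact ((hcomm x).1).symm
      · rw [mem_comap, mem_centralizer_singleton_iff]; exact ((hcomm x).2).symm
    rw [mem_comap, mem_centralizer_singleton_iff] at this
    exact this.symm
  exact isCyclic_of_injective (inclusion hle) (inclusion_injective hle)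

/-- The complement `⟨a, b⟩` of `D` when all the maximal central subgroups in sight give quaternion quotients. -/
theorem exists_complement (hS : IsPGroup 2 S) {n : ℕ} (C : Fin n → Subgroup ↥(center S)) (i0 : Fin n)
    (hmax : ∀ i, IsCoatom (C i)) (hint : ⨅ i, C i = ⊥)
    [hnI : ∀ i, ((C i).map (center S).subtype).Normal] (h : ∀ i, Hyp ((C i).map (center S).subtype)) :
    ∃ Q : Subgroup S, Q ⊓ (C i0).map (center S).subtype = ⊥ ∧ (C i0).map (center S).subtype ⊔ Q = ⊤ := by
  obtain ⟨a, b, k, hk, hcov, hb, ⟨ha1, ha2⟩, hord⟩ := exists_gens hS (C i0) (hmax i0) (h i0)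
  set n := 2 ^ k
  -- the square of a non-central element lies outside every `C i`
  have hall : ∀ x y : S, x ∉ center S → x ^ 2 ∈ center S → y ∉ center S → y ^ 2 ∈ center S → x ^ 2 = y ^ 2 := by
    intro x y hx hx2 hy hy2
    have hout : ∀ (i : Fin _) (u : S) (hu : u ^ 2 ∈ center S), u ∉ center S →
        (⟨u ^ 2, hu⟩ : ↥(center S)) ∉ C i :=
      fun i u hu hnu hm => hnu (mem_center_of_sq hS (C i) (hmax i) (h i) ⟨_, hm, rfl⟩)
    have : (⟨x ^ 2, hx2⟩ : ↥(center S)) * (⟨y ^ 2, hy2⟩)⁻¹ = 1 := by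
      rw [← Subgroup.mem_bot, ← hint, mem_iInf]
      intro i
      rw [mul_mem_iff_of_index_two (index_two hS (C i) (hmax i)), inv_mem_iff]
      exact iff_of_false (hout i x hx2 hx) (hout i y hy2 hy)
    have := congrArg Subtype.val (mul_inv_eq_one.1 this)
    exact this
  have hz2 : ∀ z : ↥(center S), z ^ 2 = 1 := by
    intro z
    rw [← Subgroup.mem_bot, ← hint, mem_iInf]
    exact fun i => sq_mem_of_index_two (index_two hS (C i) (hmax i)) z
  have hb0 : b ∉ center S := by simpa using (hb 0).1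
  have hb02 : b ^ 2 ∈ center S := by simpa using (hb 0).2
  have hb1 : b * a ∉ center S := by simpa using (hb 1).1
  have hb12 : (b * a) ^ 2 ∈ center S := by simpa using (hb 1).2
  have ez : (b * a) ^ 2 = b ^ 2 := hall _ _ hb1 hb12 hb0 hb02
  have ea : a ^ n = b ^ 2 := by
    have := hall _ _ ha1 ha2 hb0 hb02
    rwa [← pow_mul, ← pow_succ, Nat.sub_add_cancel hk] at this
  have ea2 : a ^ (2 * n) = 1 := by
    rw [mul_comm, pow_mul, ea]
    simpa using congrArg Subtype.val (hz2 ⟨_, hb02⟩)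
  -- relations
  have hconj : a * b * a = b := by
    rw [sq, sq, mul_assoc] at ez
    have := mul_left_cancel ez
    rw [← mul_assoc] at this; exact this
  have hab : ∀ i : ℕ, a ^ i * b * a ^ i = b := by
    intro i
    induction i with
    | zero => simp
    | succ i ih =>
      calc a ^ (i + 1) * b * a ^ (i + 1) = a ^ i * (a * b * a) * a ^ i := by
            rw [pow_succ, mul_assoc, mul_assoc, mul_assoc, mul_assoc, mul_assoc]
            congr 2; congr 1; rw [← pow_succ', pow_succ]
        _ = b := by rw [hconj, ih]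
  have hinv : ∀ i : ℕ, (a ^ i)⁻¹ = a ^ (i * (2 * n - 1)) := by
    intro i
    rw [inv_eq_iff_mul_eq_one, ← pow_add]
    have : i + i * (2 * n - 1) = 2 * n * i := by
      have : 1 ≤ 2 * n := by have := Nat.one_le_two_pow (n := k); omega
      obtain ⟨r, hr⟩ := Nat.exists_eq_add_of_le this
      rw [hr, Nat.add_sub_cancel_left]; ring
    rw [this, pow_mul, ea2, one_pow]
  have hswap : ∀ i : ℕ, a ^ i * b = b * (a ^ i)⁻¹ := fun i => eq_mul_inv_of_mul_eq (hab i)
  have hbb : ∀ i j : ℕ, (b * a ^ i) * (b * a ^ j) = a ^ n * ((a ^ i)⁻¹ * a ^ j) := by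
    intro i j
    rw [mul_assoc, ← mul_assoc (a ^ i), hswap, ← mul_assoc, ← mul_assoc, ← sq, ← ea, mul_assoc]
  let Q : Subgroup S :=
    { carrier := {x | ∃ j : ℕ, x = a ^ j ∨ x = b * a ^ j}
      one_mem' := ⟨0, Or.inl (pow_zero a).symm⟩
      mul_mem' := by
        rintro x y ⟨i, rfl | rfl⟩ ⟨j, rfl | rfl⟩
        · exact ⟨i + j, Or.inl (pow_add a i j).symm⟩
        · refine ⟨i * (2 * n - 1) + j, Or.inr ?_⟩
          rw [← mul_assoc, hswap, hinv, pow_add, mul_assoc]
        · exact ⟨i + j, Or.inr (by rw [mul_assoc, ← pow_add])⟩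
        · refine ⟨n + (i * (2 * n - 1) + j), Or.inl ?_⟩
          rw [hbb, hinv, ← pow_add, ← pow_add]
      inv_mem' := by
        rintro x ⟨i, rfl | rfl⟩
        · exact ⟨i * (2 * n - 1), Or.inl (hinv i)⟩
        · refine ⟨n + i, Or.inr ?_⟩
          rw [inv_eq_iff_mul_eq_one, hbb, hinv, ← pow_add, ← pow_add,
            show n + (i * (2 * n - 1) + (n + i)) = (2 * n) * 1 + (i + i * (2 * n - 1)) by ring, pow_add, pow_mul, ea2,
            one_pow, one_mul, pow_add, ← hinv, mul_inv_cancel] }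
  refine ⟨Q, ?_, ?_⟩
  · rw [eq_bot_iff]
    rintro x ⟨⟨j, rfl | rfl⟩, hx⟩
    · obtain ⟨r, rfl⟩ := hord j hx
      rw [mem_bot, pow_mul, ea2, one_pow]
    · exact absurd (map_subtype_le (C i0) hx) (hb j).1
  · refine eq_top_iff.2 fun x _ => ?_
    obtain ⟨j, hj | hj⟩ := hcov x
    · have := mul_mem (mem_sup_right (show a ^ j ∈ Q from ⟨j, Or.inl rfl⟩)) (mem_sup_left (T := Q) hj)
      rwa [mul_inv_cancel_left] at this
    · have := mul_mem (mem_sup_right (show b * a ^ j ∈ Q from ⟨j, Or.inr rfl⟩)) (mem_sup_left (T := Q) hj)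
      rwa [mul_inv_cancel_left] at this

end Cfsg.Agent.QuatCenter
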